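import Groth.Agent.Lib.Graded.Ass
import Groth.Agent.H19.Bass.Gorenstein
import Groth.Agent.Lib.LCFin.CanonEnd
import Groth.Agent.Lib.LCFin.CanonUnique
import Groth.Agent.Lib.InjHull.Basic
import Mathlib.Algebra.Module.FinitePresentation

/-!
# Pointwise canonical modules of graded Cohen–Macaulay rings
-/

set_option autoImplicit false
set_option linter.unusedSectionVars false
set_option linter.style.haveILetI false
set_option linter.overlappingInstances false

universe u

open Groth.Agent.Lib Groth.Agent.Lib.Graded Groth.Agent.Lib.Graded.Basic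

namespace Groth.Agent.H19.Canon.GrIso

section End

variable {R : Type u} [CommRing R] [LocCoh.IsCohenMacaulayRing R]

/-- `C_q` is a canonical module of `R_q`. -/
def IsCanonAt (C : Type u) [AddCommGroup C] [Module R C] (q : Ideal R) [q.IsPrime] : Prop :=
  ∀ (nq : ℕ), ringKrullDim (Localization.AtPrime q) = nq →
    ∀ (E₀ : Type u) [AddCommGroup E₀] [Module (Localization.AtPrime q) E₀]
      (f₀ : IsLocalRing.ResidueField (Localization.AtPrime q) →ₗ[Localization.AtPrime q] E₀),
      InjHull.IsInjectiveHull f₀ → Nonempty ((LocalizedModule q.primeCompl C →ₗ[Localization.AtPrime q] E₀)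
        ≃ₗ[Localization.AtPrime q] LocCoh.H (IsLocalRing.maximalIdeal (Localization.AtPrime q)) nq
          (Localization.AtPrime q))

/-- Endomorphisms of `C_q` are scalars, and `C_q` is faithful. -/
theorem end_eq_smul [IsNoetherianRing R] {C : Type u} [AddCommGroup C] [Module R C] [Module.Finite R C]
    {q : Ideal R} [q.IsPrime] (h : IsCanonAt C q) :
    (∀ φ : LocalizedModule q.primeCompl C →ₗ[Localization.AtPrime q] LocalizedModule q.primeCompl C,
        ∃ r : Localization.AtPrime q, ∀ x, φ x = r • x) ∧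
      ∀ r : Localization.AtPrime q, (∀ x : LocalizedModule q.primeCompl C, r • x = 0) → r = 0 := by
  have : LocCoh.IsCohenMacaulayLocalRing (Localization.AtPrime q) :=
    LocCoh.IsCohenMacaulayRing.isCohenMacaulayLocalRing_localization q
  obtain ⟨n, hn⟩ := Depth.CM.supportDim_eq_nat (R := Localization.AtPrime q) (Localization.AtPrime q)
  obtain ⟨E₀, _, _, f₀, hf⟩ :=
    InjHull.Basic.exists_hull (R := Localization.AtPrime q) (IsLocalRing.ResidueField (Localization.AtPrime q))
  obtain ⟨e⟩ := h n ((Module.supportDim_self_eq_ringKrullDim (R := Localization.AtPrime q)).symm.trans hn)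
    E₀ f₀ hf
  obtain ⟨h1, h2⟩ := LCFin.CanonEnd.exists_eq_smul hf n (LocalizedModule q.primeCompl C)
    (Localization.AtPrime q) Depth.CM.isCohenMacaulayModule_self hn e ⟨1, Ideal.span_singleton_one⟩
  refine ⟨h1, fun r hr ↦ ?_⟩
  simpa using Module.mem_annihilator.1 (h2 (Module.mem_annihilator.2 hr)) 1

/-- Pointwise canonical modules have only scalar endomorphisms. -/
theorem bijective_smul_id [IsNoetherianRing R] {C : Type u} [AddCommGroup C] [Module R C]
    [Module.Finite R C] (h : ∀ (q : Ideal R) [q.IsPrime], IsCanonAt C q) :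
    Function.Bijective (fun r : R => r • (LinearMap.id : C →ₗ[R] C)) := by
  classical
  constructor
  · intro a b hab
    rw [← sub_eq_zero]
    by_contra hne
    have hI : Ideal.span {(a - b)} ≠ ⊥ := fun h0 ↦ hne (Ideal.span_singleton_eq_bot.1 h0)
    have hann : (Submodule.span R {a - b}).annihilator ≠ ⊤ := fun h0 ↦ hne (by
      simpa using (Submodule.mem_annihilator_span_singleton (a - b) (1 : R)).1 (h0 ▸ Submodule.mem_top))
    obtain ⟨q, hq, hle⟩ := Ideal.exists_le_maximal _ hann
    have hz : algebraMap R (Localization.AtPrime q) (a - b) = 0 := by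
      refine (end_eq_smul (h q)).2 _ fun x ↦ ?_
      induction x using LocalizedModule.induction_on with
      | h c s =>
        rw [algebraMap_smul, LocalizedModule.smul'_mk, show (a - b) • c = 0 by
          rw [sub_smul]; exact sub_eq_zero.2 (LinearMap.congr_fun hab c), LocalizedModule.zero_mk]
    obtain ⟨⟨u, hu⟩, hu'⟩ := (IsLocalization.map_eq_zero_iff q.primeCompl _ _).1 hz
    exact hu (hle ((Submodule.mem_annihilator_span_singleton _ _).2 (by simpa using hu')))
  · intro φ
    let L : R →ₗ[R] (C →ₗ[R] C) := LinearMap.toSpanSingleton R _ LinearMap.id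
    suffices htop : (LinearMap.range L).comap (LinearMap.toSpanSingleton R _ φ) = ⊤ by
      obtain ⟨r, hr⟩ := (by simpa using htop.ge (Submodule.mem_top : (1 : R) ∈ ⊤) :
        φ ∈ LinearMap.range L)
      exact ⟨r, hr⟩
    by_contra htop
    obtain ⟨q, hq, hle⟩ := Ideal.exists_le_maximal _ htop
    obtain ⟨r, hr⟩ := (end_eq_smul (h q)).1 (LocalizedModule.map q.primeCompl φ)
    obtain ⟨a, t, rfl⟩ := IsLocalization.exists_mk'_eq q.primeCompl r
    have hx : ∀ x : C, ∃ v : q.primeCompl, v • ((t : R) • φ x - a • x) = 0 := fun x ↦ by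
      have h1 := hr (LocalizedModule.mk x 1)
      rw [LocalizedModule.map_mk, ← Localization.mk_eq_mk', LocalizedModule.mk_smul_mk, mul_one,
        LocalizedModule.mk_eq] at h1
      obtain ⟨v, hv⟩ := h1
      refine ⟨v, ?_⟩
      rw [smul_sub, sub_eq_zero]
      simpa [Submonoid.smul_def] using hv
    choose v hv using hx
    obtain ⟨T, hT⟩ := Module.Finite.fg_top (R := R) (M := C)
    let V : q.primeCompl := (∏ x ∈ T, v x)
    have hV : ((V * t : q.primeCompl) : R) • φ = ((V : R) * a) • LinearMap.id := by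
      refine LinearMap.ext_on hT fun x hx ↦ ?_
      rw [LinearMap.smul_apply, LinearMap.smul_apply, LinearMap.id_apply, Submonoid.coe_mul, mul_smul,
        mul_smul, ← sub_eq_zero, ← smul_sub]
      obtain ⟨w, hw⟩ := Finset.dvd_prod_of_mem v (Finset.mem_coe.1 hx)
      show (V : R) • _ = 0
      rw [show V = w * v x from hw.trans (mul_comm _ _), Submonoid.coe_mul, mul_smul]
      exact (congrArg ((w : R) • ·) (hv x)).trans (smul_zero _)
    exact (V * t).2 (hle ⟨(V : R) * a, hV.symm⟩)

end End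

section Unique

variable {R : Type u} [CommRing R] {ι : Type} [AddCommGroup ι] [DecidableEq ι]
  {𝒜 : ι → AddSubgroup R} [GradedRing 𝒜]
  {C C' : Type u} [AddCommGroup C] [Module R C] [AddCommGroup C'] [Module R C']
  (𝒞 : ι → AddSubgroup C) [DirectSum.Decomposition 𝒞] [SetLike.GradedSMul 𝒜 𝒞]
  (𝒞' : ι → AddSubgroup C') [DirectSum.Decomposition 𝒞'] [SetLike.GradedSMul 𝒜 𝒞']

include 𝒜 in
/-- The component of degree `d` of a linear map. -/
theorem exists_component (Φ : C →ₗ[R] C') (d : ι) :
    ∃ Φd : C →ₗ[R] C', ∀ g, ∀ x ∈ 𝒞 g, Φd x = proj 𝒞' (g + d) (Φ x) := by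
  classical
  let T : C →+ C' := (DirectSum.toAddMonoid fun g ↦
    (proj 𝒞' (g + d)).comp (Φ.toAddMonoidHom.comp (𝒞 g).subtype)).comp
      (DirectSum.decomposeAddEquiv 𝒞).toAddMonoidHom
  have hT : ∀ g, ∀ x ∈ 𝒞 g, T x = proj 𝒞' (g + d) (Φ x) := fun g x hx ↦ by
    show DirectSum.toAddMonoid _ (DirectSum.decompose 𝒞 x) = _
    rw [DirectSum.decompose_of_mem 𝒞 hx, DirectSum.toAddMonoid_of]
    rfl
  refine ⟨{ toFun := T, map_add' := T.map_add, map_smul' := fun r x ↦ ?_ }, hT⟩
  induction x using induction_hom 𝒞 with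
  | zero => simp
  | add a b ha hb => simp only [smul_add, map_add, ha, hb]
  | hom g x hx =>
    induction r using induction_hom 𝒜 with
    | zero => simp
    | add a b ha hb => simp only [RingHom.id_apply, add_smul, map_add] at ha hb ⊢; rw [ha, hb]
    | hom i r hr =>
      rw [RingHom.id_apply, hT _ _ (smul_mem_add 𝒜 𝒞 hr hx), map_smul, proj_smul_of_mem 𝒜 𝒞' hr,
        hT g x hx, show i + g + d - i = g + d by abel]

include 𝒜 in
/-- A map out of a finite graded module is the sum of finitely many homogeneous maps. -/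
theorem exists_sum_components [Module.Finite R C] (Φ : C →ₗ[R] C') :
    ∃ (D : Finset ι) (F : ι → (C →ₗ[R] C')), (∀ d, GrLC.IsGrHomDeg 𝒞 𝒞' (F d) d) ∧
      Φ = ∑ d ∈ D, F d := by
  classical
  choose F hF using exists_component (𝒜 := 𝒜) 𝒞 𝒞' Φ
  obtain ⟨T, hT⟩ := Module.Finite.fg_top (R := R) (M := C)
  let G : Finset (ι × C) := T.biUnion fun x ↦ (supp 𝒞 x).image fun g ↦ (g, proj 𝒞 g x)
  refine ⟨G.biUnion fun z ↦ (supp 𝒞' (Φ z.2)).image fun h ↦ h - z.1, F,
    fun d g x hx ↦ by rw [hF d g x hx]; exact proj_mem 𝒞' _ _, LinearMap.ext_on hT fun x hx ↦ ?_⟩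
  rw [← sum_proj 𝒞 x, map_sum, map_sum]
  refine Finset.sum_congr rfl fun g hg ↦ ?_
  rw [LinearMap.sum_apply]
  conv_lhs => rw [← sum_proj 𝒞' (Φ (proj 𝒞 g x))]
  rw [Finset.sum_congr rfl fun d _ ↦ hF d g _ (proj_mem 𝒞 g x)]
  refine Eq.trans ?_ (Finset.sum_map _ (addLeftEmbedding g) fun h ↦ proj 𝒞' h (Φ (proj 𝒞 g x)))
  refine Finset.sum_subset (fun h hh ↦ ?_) fun h _ hh ↦ by simpa [mem_supp] using hh
  refine Finset.mem_map.2 ⟨h - g, Finset.mem_biUnion.2 ⟨(g, proj 𝒞 g x),
    Finset.mem_biUnion.2 ⟨x, hx, Finset.mem_image_of_mem _ hg⟩, Finset.mem_image_of_mem _ hh⟩, ?_⟩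
  simp

include 𝒜 in
/-- Two pointwise canonical modules of a *local ring agree up to a shift. -/
theorem exists_shift_equiv [IsNoetherianRing R] [LocCoh.IsCohenMacaulayRing R] {m : HomogeneousIdeal 𝒜}
    [m.toIdeal.IsPrime] (hm : GrLC.IsStarLocal 𝒜 m) [Module.Finite R C] [Module.Finite R C']
    (hC : IsCanonAt C m.toIdeal) (hC' : IsCanonAt C' m.toIdeal) :
    ∃ (g : ι) (φ : C ≃ₗ[R] C'), GrLC.IsGrHomDeg 𝒞 𝒞' φ.toLinearMap g := by
  classical
  let S := m.toIdeal.primeCompl
  let A := Localization.AtPrime m.toIdeal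
  have : LocCoh.IsCohenMacaulayLocalRing A :=
    LocCoh.IsCohenMacaulayRing.isCohenMacaulayLocalRing_localization m.toIdeal
  obtain ⟨n, hn⟩ := Depth.CM.supportDim_eq_nat (R := A) A
  have hn' := (Module.supportDim_self_eq_ringKrullDim (R := A)).symm.trans hn
  obtain ⟨E₀, _, _, f₀, hf⟩ := InjHull.Basic.exists_hull (R := A) (IsLocalRing.ResidueField A)
  obtain ⟨e⟩ := hC n hn' E₀ f₀ hf
  obtain ⟨e'⟩ := hC' n hn' E₀ f₀ hf
  obtain ⟨ψ⟩ := LCFin.CanonUnique.nonempty_equiv hf (e.trans e'.symm)
  have : Module.FinitePresentation R C := Module.finitePresentation_of_finite R C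
  obtain ⟨Φ, s, hΦ⟩ := Module.FinitePresentation.exists_lift_of_isLocalizedModule S
    (LocalizedModule.mkLinearMap S C') ((ψ.toLinearMap.restrictScalars R).comp
      (LocalizedModule.mkLinearMap S C))
  have hΦ' : ∀ x, LocalizedModule.mk (Φ x) (1 : S) =
      algebraMap R A (s : R) • ψ (LocalizedModule.mk x 1) := fun x ↦
    (LinearMap.congr_fun hΦ x).trans (algebraMap_smul A (s : R) _).symm
  obtain ⟨D, F, hF, hsum⟩ := exists_sum_components (𝒜 := 𝒜) 𝒞 𝒞' Φ
  obtain ⟨hend, hfaith⟩ := end_eq_smul hC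
  choose r hr using fun d ↦ hend (ψ.symm.toLinearMap.comp (LocalizedModule.map S (F d)))
  have hr' : ∀ d x, LocalizedModule.map S (F d) x = r d • ψ x := fun d x ↦ by
    rw [← map_smul, ← hr d x]
    exact (ψ.apply_symm_apply _).symm
  -- some component is invertible at `m`
  have hsum' : ∑ d ∈ D, r d = algebraMap R A (s : R) := by
    rw [← sub_eq_zero]
    refine hfaith _ fun x ↦ ψ.injective ?_
    rw [map_smul, map_zero, sub_smul, sub_eq_zero, Finset.sum_smul]
    induction x using LocalizedModule.induction_on with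
    | h c t =>
      have h1 : ∀ y : C, ∑ d ∈ D, r d • ψ (LocalizedModule.mk y 1) =
          algebraMap R A (s : R) • ψ (LocalizedModule.mk y 1) := fun y ↦ by
        rw [← hΦ', hsum, LinearMap.sum_apply]
        refine Eq.trans (Finset.sum_congr rfl fun d _ ↦ (hr' d _).symm.trans (LocalizedModule.map_mk ..)) ?_
        exact (map_sum (LocalizedModule.mkLinearMap S C') (fun d ↦ F d y) D).symm
      have h2 : LocalizedModule.mk c t = Localization.mk 1 t • LocalizedModule.mk c (1 : S) := by
        rw [LocalizedModule.mk_smul_mk, one_smul, mul_one]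
      rw [h2, map_smul]
      simp only [smul_comm _ (Localization.mk 1 t)]
      rw [← Finset.smul_sum, h1]
  obtain ⟨d, hd⟩ : ∃ d, IsUnit (r d) := by
    by_contra hall
    push Not at hall
    refine (IsLocalRing.mem_maximalIdeal _).1 (show algebraMap R A (s : R) ∈ IsLocalRing.maximalIdeal A
      from hsum' ▸ sum_mem fun d _ ↦ (IsLocalRing.mem_maximalIdeal _).2 (hall d)) (IsLocalization.map_units A s)
  obtain ⟨v, hv⟩ := hd
  let Λ : LocalizedModule S C ≃ₗ[A] LocalizedModule S C' := ψ.trans (LinearEquiv.smulOfUnit v)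
  have hΛ : ∀ x, LocalizedModule.map S (F d) x = Λ x := fun x ↦ by
    rw [hr', ← hv]; rfl
  have hinj : Function.Injective (F d) := by
    rw [injective_iff_map_eq_zero]
    intro x hx
    refine eq_zero_of_proj 𝒞 fun g ↦ Bass.Gorenstein.hom_eq_zero hm (proj_mem 𝒞 g x) (Λ.injective ?_)
    rw [← hΛ, LocalizedModule.map_mk, map_zero, map_proj_deg (hF d) g x, hx, map_zero,
      LocalizedModule.zero_mk]
  have hrange : (LinearMap.range (F d)).IsHomogeneous 𝒞' := by
    rintro g _ ⟨x, rfl⟩
    show proj 𝒞' g (F d x) ∈ _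
    rw [show g = g - d + d from (sub_add_cancel g d).symm, ← map_proj_deg (hF d)]
    exact ⟨_, rfl⟩
  have hsurj : Function.Surjective (F d) := by
    intro y
    rw [← LinearMap.mem_range, ← sum_proj 𝒞' y]
    refine sum_mem fun g _ ↦ ?_
    obtain ⟨z, hz⟩ := Λ.surjective (LocalizedModule.mk (proj 𝒞' g y) 1)
    induction z using LocalizedModule.induction_on with
    | h c t =>
      rw [← hΛ, LocalizedModule.map_mk, LocalizedModule.mk_eq] at hz
      obtain ⟨w, hw⟩ := hz
      refine Bass.Gorenstein.mem_of_smul_mem hm hrange (proj_mem 𝒞' g y) (u := ((w * t : S) : R)) (w * t).2 ?_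
      refine ⟨(w : R) • c, ?_⟩
      rw [map_smul, Submonoid.coe_mul, mul_smul]
      simpa [Submonoid.smul_def] using hw
  exact ⟨d, LinearEquiv.ofBijective (F d) ⟨hinj, hsurj⟩, hF d⟩

end Unique

end Groth.Agent.H19.Canon.GrIso
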