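import Groth.Agent.H19.Canon.StarHull
import Groth.Agent.H19.Canon.GrIso
import Groth.Agent.H19.Bass.Core
import Groth.Agent.Lib.LCFin.CanonCM
import Groth.Agent.Lib.LCFin.Gorenstein
import Groth.Agent.Lib.Goren.InjDim
import Groth.Agent.Lib.Graded.Dim
import Groth.Agent.Lib.InjHull.BaseChange
import Groth.Agent.H22.GlobalDim

/-!
# Canonical modules of graded Cohen–Macaulay rings over a field
-/

set_option autoImplicit false
set_option linter.unusedSectionVars false
set_option linter.style.haveILetI false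
set_option linter.overlappingInstances false

universe u

open CategoryTheory IsLocalRing TensorProduct
open scoped Pointwise
open Groth.Agent.Lib Groth.Agent.Lib.Graded Groth.Agent.Lib.Graded.Basic

namespace Groth.Agent.H19.Canon.OverField

section Ext

variable {A : Type u} [CommRing A] {K K' V : Type u} [AddCommGroup K] [Module A K] [AddCommGroup K']
  [Module A K'] [AddCommGroup V] [Module A V]

/-- Vanishing of `Ext` out of isomorphic modules. -/
theorem subsingleton_ext_congr_left (e : K ≃ₗ[A] K') (j : ℕ)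
    (h : Subsingleton (Abelian.Ext.{u} (ModuleCat.of A K) (ModuleCat.of A V) j)) :
    Subsingleton (Abelian.Ext.{u} (ModuleCat.of A K') (ModuleCat.of A V) j) := by
  refine subsingleton_of_forall_eq 0 fun x ↦ ?_
  rw [← Abelian.Ext.mk₀_id_comp x, ← e.toModuleIso.inv_hom_id, ← Abelian.Ext.mk₀_comp_mk₀,
    Abelian.Ext.comp_assoc_of_second_deg_zero, h.elim ((Abelian.Ext.mk₀ _).comp x _) 0,
    Abelian.Ext.comp_zero]

end Ext

section Local

variable {A : Type u} [CommRing A] [IsNoetherianRing A] [IsLocalRing A] {E : Type u} [AddCommGroup E]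
  [Module A E] {f : ResidueField A →ₗ[A] E}

theorem length_residueField : Module.length A (ResidueField A) = 1 := by
  have : IsSimpleModule A (ResidueField A) :=
    InjHull.Matlis.isSimpleModule_quotient (m := maximalIdeal A)
  exact Module.length_eq_one A _

theorem isFiniteLength_of_killed (X : Type u) [AddCommGroup X] [Module A X] [Module.Finite A X]
    (h : ∀ a ∈ maximalIdeal A, ∀ x : X, a • x = 0) : IsFiniteLength A X :=
  InjHull.Complete.isFiniteLength_of_pow_smul (maximalIdeal A) 1 _ fun x c hc ↦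
    h c (by rwa [pow_one] at hc) x

/-- A canonical module of a Cohen–Macaulay local ring is Cohen–Macaulay. -/
theorem isCohenMacaulayModule [LocCoh.IsCohenMacaulayLocalRing A] (hf : InjHull.IsInjectiveHull f)
    {K : Type u} [AddCommGroup K] [Module A K] [Module.Finite A K] [Nontrivial K] {n : ℕ}
    (hn : ringKrullDim A = n) (e : (K →ₗ[A] E) ≃ₗ[A] LocCoh.H (maximalIdeal A) n A) :
    LocCoh.IsCohenMacaulayModule A K := by
  rw [Depth.CM.isCohenMacaulayModule_iff_le]
  refine ((Module.supportDim_le_ringKrullDim A K).trans hn.le).trans (WithBot.coe_le_coe.2 ?_)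
  rw [Depth.Ext.le_depth_iff_ext]
  exact fun i hi ↦ LCFin.CanonCM.subsingleton_ext_residueField hf hn e hi

/-- A canonical module has type one. -/
theorem length_ext_eq_one [LocCoh.IsCohenMacaulayLocalRing A] (hf : InjHull.IsInjectiveHull f)
    {K : Type u} [AddCommGroup K] [Module A K] [Module.Finite A K] {n : ℕ}
    (hn : ringKrullDim A = n) (e : (K →ₗ[A] E) ≃ₗ[A] LocCoh.H (maximalIdeal A) n A) :
    Module.length A (Abelian.Ext.{u} (ModuleCat.of A (ResidueField A)) (ModuleCat.of A K) n) = 1 := by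
  obtain ⟨e'⟩ := LCFin.CanonCM.nonempty_duality hf hn e n 0 (zero_add n) (ResidueField A)
  have htop : DRing.torsionSub (maximalIdeal A) (ResidueField A) = ⊤ := by
    refine eq_top_iff.2 fun x _ ↦ ⟨1, fun a ha ↦ ?_⟩
    rw [pow_one] at ha
    exact Module.mem_annihilator.1 (Goren.Basic.mem_annihilator_residueField ha) x
  let e0 : LocCoh.H (maximalIdeal A) 0 (ResidueField A) ≃ₗ[A] ResidueField A :=
    ((LocalCoh.lcZeroIso _).app (ModuleCat.of A (ResidueField A))).toLinearEquiv.trans
      (LinearEquiv.ofTop _ htop)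
  have hfl : IsFiniteLength A
      (Abelian.Ext.{u} (ModuleCat.of A (ResidueField A)) (ModuleCat.of A K) n) := by
    have : Module.Finite A
        (Abelian.Ext.{u} (ModuleCat.of A (ResidueField A)) (ModuleCat.of A K) n) := inferInstance
    exact isFiniteLength_of_killed _ fun a ha x ↦ Depth.Ext.smul_eq_zero_of_annihilator_src
      (Goren.Basic.mem_annihilator_residueField ha) x
  rw [← InjHull.Matlis.length_dual hf hfl, ← (e0.symm.trans e').length_eq, length_residueField]

/-- The type of a Cohen–Macaulay module is the number of generators of its canonical module. -/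
theorem length_ext_eq_length_tensor (hf : InjHull.IsInjectiveHull f) :
    ∀ (d : ℕ) (K Q : Type u) [AddCommGroup K] [Module A K] [Module.Finite A K] [AddCommGroup Q]
      [Module A Q] [Module.Finite A Q], LocCoh.IsCohenMacaulayModule A Q →
      Module.supportDim A Q = d → ((K →ₗ[A] E) ≃ₗ[A] LocCoh.H (maximalIdeal A) d Q) →
      Module.length A (Abelian.Ext.{u} (ModuleCat.of A (ResidueField A)) (ModuleCat.of A Q) d) =
        Module.length A (ResidueField A ⊗[A] K) := by
  intro d
  induction d with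
  | zero =>
    intro K Q _ _ _ _ _ _ _ hd e
    let e₀ : (K →ₗ[A] E) ≃ₗ[A] Q := e.trans
      (((LocalCoh.lcZeroIso _).app (ModuleCat.of A Q)).toLinearEquiv.trans
        (LinearEquiv.ofTop _ (LCFin.Nonvanishing.torsionSub_eq_top Q (by rw [hd, Nat.cast_zero]))))
    have hfl : IsFiniteLength A (ResidueField A ⊗[A] K) := isFiniteLength_of_killed _ fun a ha x ↦ by
      induction x using TensorProduct.induction_on with
      | zero => exact smul_zero _
      | tmul c y =>
        rw [smul_tmul', Module.mem_annihilator.1 (Goren.Basic.mem_annihilator_residueField ha) c,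
          zero_tmul]
      | add x y hx hy => rw [smul_add, hx, hy, add_zero]
    rw [← InjHull.Matlis.length_dual hf hfl]
    exact ((LCFin.ExtLoc.homEquiv _ _).trans ((LinearEquiv.congrRight e₀).symm.trans
      (TensorProduct.lift.equiv (RingHom.id A) (ResidueField A) K E))).length_eq
  | succ d ih =>
    intro K Q _ _ _ _ _ _ hCM hd e
    have hdepth : LocCoh.depth A Q = (d + 1 : ℕ) := by
      have h' : ((LocCoh.depth A Q : ℕ∞) : WithBot ℕ∞) = (((d + 1 : ℕ) : ℕ∞) : WithBot ℕ∞) :=
        Eq.trans (Eq.symm hCM) (by exact_mod_cast hd)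
      exact WithBot.coe_injective h'
    have hlow : ∀ i < d + 1, Subsingleton (Abelian.Ext.{u} (ModuleCat.of A (ResidueField A))
        (ModuleCat.of A Q) i) := (Depth.Ext.le_depth_iff_ext Q (d + 1)).1 hdepth.ge
    obtain ⟨a, ha, hreg, -, -⟩ := Depth.Local.exists_regular_of_idealDepth_eq_succ hdepth
    obtain ⟨d', hdd', hCM', hd', ⟨e'⟩⟩ := LCFin.CanonEnd.exists_quot hf hCM hd e ha hreg
    obtain rfl : d = d' := by omega
    let k := ModuleCat.of A (ResidueField A)
    let μ : Q →ₗ[A] Q := a • LinearMap.id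
    let π : Q →ₗ[A] QuotSMulTop a Q := Submodule.mkQ _
    have hμinj : Function.Injective μ := fun b c h ↦ hreg h
    have hex : Function.Exact μ π := fun b ↦ by
      rw [Submodule.mkQ_apply, Submodule.Quotient.mk_eq_zero, Submodule.mem_smul_pointwise_iff_exists]
      exact ⟨fun ⟨c, _, hc⟩ ↦ ⟨c, hc⟩, fun ⟨c, hc⟩ ↦ ⟨c, trivial, hc⟩⟩
    have hS := LCFin.Seq.ses_shortExact hμinj (Submodule.mkQ_surjective _) hex
    have hkill : ∀ {i : ℕ} (w : Abelian.Ext.{u} k (ModuleCat.of A Q) i),
        w.comp (Abelian.Ext.mk₀ (ModuleCat.ofHom μ)) (add_zero i) = 0 := fun {i} w ↦ by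
      rw [show ModuleCat.ofHom μ = a • 𝟙 (ModuleCat.of A Q) from rfl,
        ← Abelian.Ext.smul_eq_comp_mk₀]
      exact Depth.Ext.smul_eq_zero_of_annihilator_src (Goren.Basic.mem_annihilator_residueField ha) w
    let δ : Abelian.Ext.{u} k (ModuleCat.of A (QuotSMulTop a Q)) d →ₗ[A]
        Abelian.Ext.{u} k (ModuleCat.of A Q) (d + 1) :=
      { toFun := fun y ↦ y.comp hS.extClass rfl
        map_add' := fun _ _ ↦ Abelian.Ext.add_comp ..
        map_smul' := fun _ _ ↦ Abelian.Ext.smul_comp .. }
    have hδ : Function.Bijective δ := by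
      refine ⟨?_, fun w ↦ Abelian.Ext.covariant_sequence_exact₁ k hS w (hkill w) rfl⟩
      rw [← LinearMap.ker_eq_bot, Submodule.eq_bot_iff]
      intro y hy
      obtain ⟨z, rfl⟩ := Abelian.Ext.covariant_sequence_exact₃ k hS y rfl hy
      rw [(hlow d d.lt_succ_self).elim z 0, Abelian.Ext.zero_comp]
    rw [← (LinearEquiv.ofBijective δ hδ).length_eq, ih _ _ hCM' hd' e']
    let π' : K →ₗ[A] QuotSMulTop a K := Submodule.mkQ _
    let μ' : K →ₗ[A] K := a • LinearMap.id
    have hex' : Function.Exact μ' π' := fun b ↦ by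
      rw [Submodule.mkQ_apply, Submodule.Quotient.mk_eq_zero, Submodule.mem_smul_pointwise_iff_exists]
      exact ⟨fun ⟨c, _, hc⟩ ↦ ⟨c, hc⟩, fun ⟨c, hc⟩ ↦ ⟨c, trivial, hc⟩⟩
    refine (LinearEquiv.ofBijective (LinearMap.lTensor (ResidueField A) π') ⟨?_,
      LinearMap.lTensor_surjective _ (Submodule.mkQ_surjective _)⟩).length_eq.symm
    rw [injective_iff_map_eq_zero]
    intro x hx
    obtain ⟨y, rfl⟩ := (lTensor_exact (ResidueField A) hex' (Submodule.mkQ_surjective _) x).1 hx
    induction y using TensorProduct.induction_on with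
    | zero => exact map_zero _
    | tmul c z =>
      rw [LinearMap.lTensor_tmul, show μ' z = a • z from rfl, tmul_smul, smul_tmul',
        Module.mem_annihilator.1 (Goren.Basic.mem_annihilator_residueField ha) c, zero_tmul]
    | add x y hx' hy' =>
      rw [map_add, hx' (by rw [← LinearMap.comp_apply, ← LinearMap.lTensor_comp,
        hex'.linearMap_comp_eq_zero, LinearMap.lTensor_zero, LinearMap.zero_apply]),
        hy' (by rw [← LinearMap.comp_apply, ← LinearMap.lTensor_comp,
        hex'.linearMap_comp_eq_zero, LinearMap.lTensor_zero, LinearMap.zero_apply]), add_zero]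

end Local

section Graded

variable {R : Type u} [CommRing R] [IsNoetherianRing R]

/-- Vanishing of `Ext` out of cyclic modules is local. -/
theorem subsingleton_ext_of_localized (C : Type u) [AddCommGroup C] [Module R C] (J : Ideal R) (j : ℕ)
    (h : ∀ (P : Ideal R) [P.IsMaximal], Subsingleton (Abelian.Ext.{u}
      (ModuleCat.of (Localization.AtPrime P) (Localization.AtPrime P ⧸ Bass.Rel.ext J P))
      (ModuleCat.of (Localization.AtPrime P) (LocalizedModule P.primeCompl C)) j)) :
    Subsingleton (Abelian.Ext.{u} (ModuleCat.of R (R ⧸ J)) (ModuleCat.of R C) j) := by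
  refine subsingleton_of_forall_eq 0 fun x ↦ ?_
  by_contra hx
  have hann : (Submodule.span R {x}).annihilator ≠ ⊤ := fun h0 ↦ hx (by
    simpa using (Submodule.mem_annihilator_span_singleton x (1 : R)).1 (h0 ▸ Submodule.mem_top))
  obtain ⟨P, hP, hle⟩ := Ideal.exists_le_maximal _ hann
  obtain ⟨d⟩ := Bass.Rel.nonempty_quotient_equiv J P
  obtain ⟨e⟩ := LCFin.ExtLoc.nonempty_equiv P.primeCompl C j (R ⧸ J)
  have := subsingleton_ext_congr_left d.symm j (h P)
  obtain ⟨⟨u, hu⟩, hu'⟩ := (Bass.Local.mk_eq_zero _ x 1).1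
    (e.injective (Subsingleton.elim (e (LocalizedModule.mk x 1)) (e 0)))
  exact hu (hle ((Submodule.mem_annihilator_span_singleton _ _).2 hu'))

variable {𝒜 : ℤ → AddSubgroup R} [GradedRing 𝒜] {C : Type u} [AddCommGroup C] [Module R C]
  [Module.Finite R C] {m : HomogeneousIdeal 𝒜} [m.toIdeal.IsPrime]

/-- Finite injective dimension at the *maximal ideal spreads to every prime. -/
theorem subsingleton_ext_residue (𝒞 : ℤ → AddSubgroup C) [DirectSum.Decomposition 𝒞]
    [SetLike.GradedSMul 𝒜 𝒞] (hm : GrLC.IsStarLocal 𝒜 m) {n : ℕ} (hdim : ringKrullDim R ≤ n)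
    (hK : HasInjectiveDimensionLT
      (ModuleCat.of (Localization.AtPrime m.toIdeal) (LocalizedModule m.toIdeal.primeCompl C)) (n + 1))
    (P : Ideal R) [P.IsPrime] {j : ℕ} (hj : 2 * n + 1 ≤ j) :
    Subsingleton (Abelian.Ext.{u}
      (ModuleCat.of (Localization.AtPrime P) (ResidueField (Localization.AtPrime P)))
      (ModuleCat.of (Localization.AtPrime P) (LocalizedModule P.primeCompl C)) j) := by
  let q := Ideal.homogeneousCore 𝒜 P
  have hq : q.toIdeal.IsPrime := Ass.isPrime_core 𝒜 ‹P.IsPrime›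
  have hqm : q.toIdeal ≤ m.toIdeal := Bass.Gorenstein.le_of_ne_top hm q.isHomogeneous hq.ne_top
  have hqP : q.toIdeal ≤ P := Ideal.toIdeal_homogeneousCore_le 𝒜 P
  have hqz : ∀ i, n < i → GrLC.bassNum q.toIdeal C i = 0 := by
    intro i hi
    refine Module.length_eq_zero_iff.2 ?_
    obtain ⟨em⟩ := LCFin.ExtLoc.nonempty_equiv m.toIdeal.primeCompl C i (R ⧸ q.toIdeal)
    obtain ⟨eq⟩ := LCFin.ExtLoc.nonempty_equiv q.toIdeal.primeCompl C i (R ⧸ q.toIdeal)
    obtain ⟨d⟩ := Bass.Rel.nonempty_quotient_equiv q.toIdeal q.toIdeal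
    refine subsingleton_ext_congr_left (d.trans
      (Submodule.quotEquivOfEq _ _ Localization.AtPrime.map_eq_maximalIdeal)) i
      (subsingleton_of_forall_eq 0 fun z ↦ ?_)
    obtain ⟨w, rfl⟩ := eq.surjective z
    induction w using LocalizedModule.induction_on with
    | h x s =>
      have := HasInjectiveDimensionLT.subsingleton (ModuleCat.of (Localization.AtPrime m.toIdeal)
        (LocalizedModule m.toIdeal.primeCompl C)) (n + 1) i hi
        (ModuleCat.of (Localization.AtPrime m.toIdeal)
          (LocalizedModule m.toIdeal.primeCompl (R ⧸ q.toIdeal)))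
      obtain ⟨⟨u, hu⟩, hu'⟩ := (Bass.Local.mk_eq_zero _ x 1).1
        (em.injective (Subsingleton.elim (em (LocalizedModule.mk x 1)) (em 0)))
      rw [show LocalizedModule.mk x s = 0 from (Bass.Local.mk_eq_zero _ _ _).2
        ⟨⟨u, fun h ↦ hu (hqm h)⟩, hu'⟩, map_zero]
  have hp : (P.map (Ideal.Quotient.mk q.toIdeal)).IsPrime :=
    Ideal.map_isPrime_of_surjective Ideal.Quotient.mk_surjective (by rwa [Ideal.mk_ker])
  have hle : ((P.map (Ideal.Quotient.mk q.toIdeal)).height : WithBot ℕ∞) ≤ n :=
    (Ideal.height_le_ringKrullDim_of_ne_top hp.ne_top).trans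
      ((ringKrullDim_quotient_le q.toIdeal).trans hdim)
  have hle' : (P.map (Ideal.Quotient.mk q.toIdeal)).height ≤ (n : ℕ∞) := WithBot.coe_le_coe.1 hle
  obtain ⟨d, hd⟩ := ENat.ne_top_iff_exists.1 (ne_top_of_le_ne_top (ENat.coe_ne_top n) hle')
  have hdn : d ≤ n := by rw [← hd] at hle'; exact_mod_cast hle'
  obtain ⟨i, rfl⟩ := Nat.exists_eq_add_of_le' (show d ≤ j by omega)
  exact Module.length_eq_zero_iff.1
    (((Bass.Core.bassNum_eq 𝒞 P d hd.symm).2 i).trans (hqz i (by omega)))

/-- Finite injective dimension of a graded module is decided at the *maximal ideal. -/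
theorem exists_hasInjectiveDimensionLT (𝒞 : ℤ → AddSubgroup C) [DirectSum.Decomposition 𝒞]
    [SetLike.GradedSMul 𝒜 𝒞] (hm : GrLC.IsStarLocal 𝒜 m) {n : ℕ} (hdim : ringKrullDim R ≤ n)
    (hK : HasInjectiveDimensionLT
      (ModuleCat.of (Localization.AtPrime m.toIdeal) (LocalizedModule m.toIdeal.primeCompl C)) (n + 1)) :
    ∃ N : ℕ, HasInjectiveDimensionLT (ModuleCat.of R C) N := by
  refine ⟨2 * n + 1 + 1, H22.GlobalDim.hasInjectiveDimensionLT_of_cyclic (2 * n + 1) _ fun J ↦ ?_⟩
  refine subsingleton_ext_of_localized C J _ fun P _ ↦ ?_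
  exact Goren.InjDim.subsingleton_ext_quotient _ (2 * n + 1)
    (fun i hi ↦ subsingleton_ext_residue 𝒞 hm hdim hK P hi) _ _ (Nat.le_succ _)

variable (𝒜) in
omit [IsNoetherianRing R] in
/-- The local ring at a maximal *maximal ideal has the dimension of the ring. -/
theorem ringKrullDim_localization [IsNoetherianRing R] {m : HomogeneousIdeal 𝒜} [m.toIdeal.IsMaximal]
    (hm : GrLC.IsStarLocal 𝒜 m) {n : ℕ} (hn : ringKrullDim R = n) :
    ringKrullDim (Localization.AtPrime m.toIdeal) = n ∧ m.toIdeal.height = n := by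
  have h := (Graded.Dim.ringKrullDim_eq_height (𝒜 := 𝒜) (m := m.toIdeal)
    fun P hP ↦ Bass.Gorenstein.le_of_ne_top hm P.isHomogeneous hP).symm.trans hn
  exact ⟨(IsLocalization.AtPrime.ringKrullDim_eq_height m.toIdeal _).trans h,
    WithBot.coe_injective h⟩

/-- `k ⊗ C` has the same length over the local ring as `R/m ⊗ C` has over `R/m`. -/
theorem length_tensor_eq_finrank {m : Ideal R} [m.IsMaximal] (C : Type u) [AddCommGroup C] [Module R C]
    [Module.Finite R C] :
    Module.length (Localization.AtPrime m)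
        (ResidueField (Localization.AtPrime m) ⊗[Localization.AtPrime m]
          LocalizedModule m.primeCompl C) =
      (Module.finrank (R ⧸ m) ((R ⧸ m) ⊗[R] C) : ℕ∞) := by
  let A := Localization.AtPrime m
  let k := ResidueField A
  let e1 : LocalizedModule m.primeCompl C ≃ₗ[A] A ⊗[R] C := LocalizedModule.equivTensorProduct _ C
  have hbij := Ideal.bijective_algebraMap_quotient_residueField m
  let ek : (R ⧸ m) ≃ₗ[R] k :=
    LinearEquiv.ofBijective (IsScalarTower.toAlgHom R (R ⧸ m) k).toLinearMap hbij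
  have hR : Function.Surjective (algebraMap R k) := fun c ↦ by
    obtain ⟨x, rfl⟩ := hbij.2 c
    obtain ⟨r, rfl⟩ := Ideal.Quotient.mk_surjective x
    exact ⟨r, IsScalarTower.algebraMap_apply R (R ⧸ m) k r⟩
  rw [((TensorProduct.congr (LinearEquiv.refl A k) e1).trans
    (TensorProduct.AlgebraTensorModule.cancelBaseChange R A A k C)).length_eq,
    Module.length_eq_of_surjective (R := k) IsLocalRing.residue_surjective,
    ← Module.length_eq_of_surjective (R := k) hR,
    ← (TensorProduct.congr ek (LinearEquiv.refl R C)).length_eq,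
    Module.length_eq_of_surjective (R := R ⧸ m) Ideal.Quotient.mk_surjective]
  let := Ideal.Quotient.field m
  exact Module.length_eq_finrank (R ⧸ m) ((R ⧸ m) ⊗[R] C)

end Graded

end Groth.Agent.H19.Canon.OverField
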