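import Groth.Agent.H19.Bass.Gorenstein
import Groth.Agent.Lib.InjHull.Matlis
import Groth.Agent.Lib.InjHull.Recognize
import Groth.Agent.Lib.Graded.LocCohCompare
import Groth.Agent.Lib.LocalCoh.Local
import Mathlib.Algebra.Module.FinitePresentation

/-!
# The *injective hull of `R/p`, localized at `p`, and localization of *canonical modules
-/

set_option autoImplicit false
set_option linter.unusedSectionVars false
set_option linter.style.haveILetI false

universe u

open CategoryTheory IsLocalRing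
open Groth.Agent.Lib Groth.Agent.Lib.Graded Groth.Agent.Lib.Graded.Basic

namespace Groth.Agent.H19.Canon.StarHull

section Local

variable {A : Type u} [CommRing A] [IsLocalRing A] [IsNoetherianRing A]

/-- A torsion module with simple socle and no `Ext¹` out of the residue field is the injective hull
of the residue field. -/
theorem exists_hull_of_ext_one (W : Type u) [AddCommGroup W] [Module A W]
    (htor : LocCoh.IsPowerTorsion (maximalIdeal A) W)
    (hsimple : IsSimpleModule A (ResidueField A →ₗ[A] W))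
    (hext : Subsingleton (Abelian.Ext.{u} (ModuleCat.of A (ResidueField A)) (ModuleCat.of A W) 1)) :
    ∃ f : ResidueField A →ₗ[A] W, InjHull.IsInjectiveHull f := by
  obtain ⟨φ, hφ⟩ : ∃ φ : ResidueField A →ₗ[A] W, InjHull.IsEssentialInj φ :=
    InjHull.Recognize.exists_essential_of_simple_socle (m := maximalIdeal A) W htor hsimple
  obtain ⟨E, _, _, g, hg⟩ := InjHull.Basic.exists_hull (R := A) (ResidueField A)
  obtain ⟨α, hα, hαφ⟩ := InjHull.Basic.exists_extend hφ g hg.injective hg.isInjective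
  let π : E →ₗ[A] E ⧸ LinearMap.range α := (LinearMap.range α).mkQ
  have hS := LCFin.Seq.ses_shortExact hα (Submodule.mkQ_surjective _)
    (LinearMap.exact_map_mkQ_range α)
  have hsocle : ∀ x ∈ LocCoh.torsionBy (maximalIdeal A) E, x ∈ LinearMap.range α := fun x hx ↦ by
    have h1 : x ∈ LinearMap.range g :=
      (InjHull.Matlis.torsionBy_eq_range (m := maximalIdeal A) hg.toIsEssentialInj).le hx
    obtain ⟨c, rfl⟩ := h1
    exact ⟨φ c, LinearMap.congr_fun hαφ c⟩
  have hQtor : LocCoh.IsPowerTorsion (maximalIdeal A) (E ⧸ LinearMap.range α) := fun x ↦ by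
    obtain ⟨y, rfl⟩ := (LinearMap.range α).mkQ_surjective x
    obtain ⟨n, hn⟩ := InjHull.Matlis.isPowerTorsion (m := maximalIdeal A) hg.toIsEssentialInj y
    exact ⟨n, fun a ha ↦ by rw [← map_smul, hn a ha, map_zero]⟩
  have hQsoc : ∀ x ∈ LocCoh.torsionBy (maximalIdeal A) (E ⧸ LinearMap.range α), x = 0 := by
    intro x hx
    let ψ : ResidueField A →ₗ[A] E ⧸ LinearMap.range α :=
      (InjHull.BaseChange.homQuotientEquiv (maximalIdeal A) _).symm ⟨x, hx⟩
    obtain ⟨χ, hχ⟩ := Abelian.Ext.covariant_sequence_exact₃ (ModuleCat.of A (ResidueField A)) hS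
      (Abelian.Ext.mk₀ (ModuleCat.ofHom ψ)) rfl (hext.elim _ _)
    let χ' : ResidueField A →ₗ[A] E := LCFin.ExtLoc.homEquiv _ _ χ
    have hψ : π.comp χ' = ψ := by
      obtain ⟨χ₀, rfl⟩ := Abelian.Ext.homEquiv₀.symm.surjective χ
      rw [Abelian.Ext.homEquiv₀_symm_apply, Abelian.Ext.mk₀_comp_mk₀] at hχ
      have := congrArg ModuleCat.Hom.hom ((Abelian.Ext.mk₀_bijective _ _).1 hχ)
      exact (show π.comp χ₀.hom = ψ from this) ▸
        congrArg π.comp (show χ' = χ₀.hom from congrArg ModuleCat.Hom.hom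
          (Abelian.Ext.homEquiv₀.apply_symm_apply χ₀))
    have h1 : χ' (residue A 1) ∈ LocCoh.torsionBy (maximalIdeal A) E :=
      (InjHull.BaseChange.homQuotientEquiv (maximalIdeal A) E χ').2
    obtain ⟨w, hw⟩ := hsocle _ h1
    have hx' : x = ψ (residue A 1) := congrArg Subtype.val
      ((InjHull.BaseChange.homQuotientEquiv (maximalIdeal A) _).apply_symm_apply ⟨x, hx⟩).symm
    rw [hx', ← hψ, LinearMap.comp_apply, ← hw]
    exact (Submodule.Quotient.mk_eq_zero _).2 ⟨w, rfl⟩
  have hsurj : Function.Surjective α := fun y ↦ by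
    by_contra hy
    obtain ⟨r, hr0, hr⟩ := InjHull.Artinian.exists_smul_mem_torsionBy hQtor
      (show π y ≠ 0 from fun h ↦ hy ((Submodule.Quotient.mk_eq_zero _).1 h))
    exact hr0 (hQsoc _ hr)
  have hinj : Module.Injective A W :=
    InjHull.Basic.injective_of_equiv (LinearEquiv.ofBijective α ⟨hα, hsurj⟩).symm hg.isInjective
  exact ⟨φ, { toIsEssentialInj := hφ, isInjective := hinj }⟩

end Local

section Graded

variable {R : Type u} [CommRing R] [IsNoetherianRing R] {ι : Type} [AddCommGroup ι] [DecidableEq ι]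
  [Module.Free ℤ ι] [Module.Finite ℤ ι] {𝒜 : ι → AddSubgroup R} [GradedRing 𝒜]
  {p : HomogeneousIdeal 𝒜} [p.toIdeal.IsPrime] {E' : Type u} [AddCommGroup E'] [Module R E']
  {𝓔 : ι → AddSubgroup E'} [DirectSum.Decomposition 𝓔] [SetLike.GradedSMul 𝒜 𝓔]
  {e : (R ⧸ p.toIdeal) →ₗ[R] E'}

/-- The *injective hull of `R/p`, localized at `p`, is the injective hull of the residue field. -/
theorem exists_hull_localized (he : GrLC.IsStarInjHull 𝒜 (GrLC.quotGr 𝒜 p) 𝓔 e) :
    ∃ f : ResidueField (Localization.AtPrime p.toIdeal) →ₗ[Localization.AtPrime p.toIdeal]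
      LocalizedModule p.toIdeal.primeCompl E', InjHull.IsInjectiveHull f := by
  let A := Localization.AtPrime p.toIdeal
  let S := p.toIdeal.primeCompl
  refine exists_hull_of_ext_one _ (fun x ↦ ?_) ?_ ?_
  · induction x using LocalizedModule.induction_on with
    | h y s =>
      obtain ⟨n, hn⟩ := (HullPrime.gam_eq_top he.toIsStarEss).ge (Submodule.mem_top : y ∈ ⊤)
      refine ⟨n, fun a ha ↦ ?_⟩
      rw [← Localization.AtPrime.map_eq_maximalIdeal, ← Ideal.map_pow] at ha
      refine (Submodule.mem_annihilator_span_singleton _ _).1 ((Ideal.map_le_iff_le_comap.2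
        fun r hr ↦ ?_) ha)
      rw [Ideal.mem_comap, Submodule.mem_annihilator_span_singleton, algebraMap_smul,
        LocalizedModule.smul'_mk, hn r hr, LocalizedModule.zero_mk]
  · obtain ⟨φ0, hφ0⟩ := Bass.Gorenstein.exists_residue_hom (m := p) (e (Ideal.Quotient.mk _ 1))
      fun a ha ↦ by
        rw [HullPrime.smul_apply_mk, Ideal.Quotient.eq_zero_iff_mem.2 (p.toIdeal.mul_mem_right _ ha),
          map_zero]
    have hne : φ0 ≠ 0 := fun h ↦ by
      obtain ⟨⟨u, hu⟩, hu'⟩ := (Bass.Local.mk_eq_zero _ _ _).1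
        (show LocalizedModule.mk (e (Ideal.Quotient.mk _ 1)) (1 : S) = 0 by
          rw [← hφ0, h, LinearMap.zero_apply])
      refine hu ((HullPrime.smul_mk_eq_zero he.toIsStarEss (s := 1) ?_).1 hu')
      exact fun h1 ↦ Ideal.IsPrime.ne_top' ((Ideal.eq_top_iff_one p.toIdeal).2 h1)
    rw [isSimpleModule_iff_toSpanSingleton_surjective]
    have key : ∀ φ : ResidueField A →ₗ[A] LocalizedModule S E', ∃ c : A, c • φ0 = φ := by
      intro φ
      have h0 := Bass.Local.map_eq_zero_of_ess (𝒜 := 𝒜) (𝒳 := 𝓔) p.isHomogeneous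
        (LinearMap.range e).mkQ (LinearMap.range e) (by rw [Submodule.ker_mkQ]) he.essential (φ 1)
        fun a ha ↦ Bass.Local.smul_hom_eq_zero φ 1 ha
      obtain ⟨z, hz⟩ := (LocalizedModule.map_exact S e (LinearMap.range e).mkQ
        (LinearMap.exact_map_mkQ_range e) _).1 h0
      induction z using LocalizedModule.induction_on with
      | h z s =>
        obtain ⟨r, rfl⟩ := Ideal.Quotient.mk_surjective z
        rw [IsLocalizedModule.mk_eq_mk', IsLocalizedModule.map_mk', ← IsLocalizedModule.mk_eq_mk'] at hz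
        refine ⟨Localization.mk r s, LinearMap.ext fun c ↦ ?_⟩
        obtain ⟨a, rfl⟩ := residue_surjective c
        rw [show residue A a = a • (1 : ResidueField A) by
          rw [Algebra.smul_def, mul_one]; rfl, map_smul, map_smul, LinearMap.smul_apply, hφ0,
          LocalizedModule.mk_smul_mk, mul_one, HullPrime.smul_apply_mk, mul_one, hz]
    refine ⟨⟨φ0, 0, hne⟩, fun u hu v ↦ ?_⟩
    obtain ⟨cu, rfl⟩ := key u
    obtain ⟨cv, rfl⟩ := key v
    have hunit : IsUnit cu := by
      by_contra h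
      refine hu (LinearMap.ext fun c ↦ ?_)
      rw [LinearMap.smul_apply, ← map_smul, Algebra.smul_def, ResidueField.algebraMap_eq,
        (residue_eq_zero_iff _).2 ((mem_maximalIdeal _).2 h), zero_mul, map_zero, LinearMap.zero_apply]
    obtain ⟨w, rfl⟩ := hunit
    exact ⟨cv * ↑w⁻¹, by rw [LinearMap.toSpanSingleton_apply, smul_smul, mul_assoc, w.inv_mul, mul_one]⟩
  · refine Bass.Local.ext_subsingleton_localized p.toIdeal E' 1 ?_
    letI := HullPrime.quotDecomp p
    haveI := HullPrime.quotGSMul p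
    exact ExtStarInj.ext_subsingleton (GrLC.GMod.of 𝒜 E' 𝓔) he.starInj 0
      (GrLC.GMod.of 𝒜 (R ⧸ p.toIdeal) (GrLC.quotGr 𝒜 p))
      (inferInstanceAs (Module.Finite R (R ⧸ p.toIdeal)))

/-- A *canonical module localizes to a canonical module. -/
theorem nonempty_canonical_localized (he : GrLC.IsStarInjHull 𝒜 (GrLC.quotGr 𝒜 p) 𝓔 e) (n : ℕ)
    {I : GrLC.StarInjRes 𝒜 𝒜} {C : Type u} [AddCommGroup C] [Module R C] [Module.Finite R C]
    (φ : (C →ₗ[R] E') ≃ₗ[R] I.H p n)
    {E₀ : Type u} [AddCommGroup E₀] [Module (Localization.AtPrime p.toIdeal) E₀]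
    {f : ResidueField (Localization.AtPrime p.toIdeal) →ₗ[Localization.AtPrime p.toIdeal] E₀}
    (hf : InjHull.IsInjectiveHull f) :
    Nonempty ((LocalizedModule p.toIdeal.primeCompl C →ₗ[Localization.AtPrime p.toIdeal] E₀)
      ≃ₗ[Localization.AtPrime p.toIdeal] LocCoh.H (maximalIdeal (Localization.AtPrime p.toIdeal)) n
        (Localization.AtPrime p.toIdeal)) := by
  let A := Localization.AtPrime p.toIdeal
  let S := p.toIdeal.primeCompl
  obtain ⟨f', hf'⟩ := exists_hull_localized he
  obtain ⟨u, -⟩ := InjHull.Basic.unique hf hf'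
  have : Module.FinitePresentation R C := Module.finitePresentation_of_finite R C
  let ψ : (C →ₗ[R] E') ≃ₗ[R] LocCoh.H p.toIdeal n R := φ.trans (LocCohCompare.equiv I p n)
  obtain ⟨e1⟩ := LocalCoh.nonempty_lc_localizedModule_equiv p.toIdeal S R n
  let eR : LocalizedModule S R ≃ₗ[A] A :=
    (IsLocalizedModule.iso S (Algebra.linearMap R A)).extendScalarsOfIsLocalization S A
  let e2 : LocalizedModule S (C →ₗ[R] E') ≃ₗ[A] LocalizedModule S (LocCoh.H p.toIdeal n R) :=
    LinearEquiv.ofBijective (LocalizedModule.map S ψ.toLinearMap)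
      ⟨LocalizedModule.map_injective S _ ψ.injective, LocalizedModule.map_surjective S _ ψ.surjective⟩
  let e3 : (LocalizedModule S C →ₗ[A] LocalizedModule S E') ≃ₗ[A] LocalizedModule S (C →ₗ[R] E') :=
    (Module.FinitePresentation.linearEquivMapExtendScalars (M := C) (N := E') S).symm.extendScalarsOfIsLocalization S A
  let e4 : (LocalizedModule S C →ₗ[A] E₀) ≃ₗ[A] (LocalizedModule S C →ₗ[A] LocalizedModule S E') :=
    LinearEquiv.congrRight u
  have h := e4.trans (e3.trans (e2.trans e1))
  rw [Localization.AtPrime.map_eq_maximalIdeal] at h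
  exact ⟨h.trans (LocalCoh.lcLinearEquiv (maximalIdeal A) n eR)⟩

end Graded

end Groth.Agent.H19.Canon.StarHull
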